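import Mathlib

/-!
# Subobjects generated in low degrees of simplicial objects of an abelian category
-/

set_option autoImplicit false

universe v u

open CategoryTheory CategoryTheory.Limits AlgebraicTopology Opposite
open AlgebraicTopology.DoldKan

namespace Groth.Agent.SimpSkelLib

variable {A : Type u} [Category.{v} A] [Abelian A]

lemma comp_PInfty_eq_zero (U : SimplicialObject A) {i m : ℕ}
    (φ : SimplexCategory.mk m ⟶ SimplexCategory.mk i) (h : i < m) :
    U.map φ.op ≫ PInfty.f m = 0 := by
  refine degeneracy_comp_PInfty U m φ fun hφ => ?_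
  haveI := hφ
  exact absurd (SimplexCategory.len_le_of_mono φ) (by simp; omega)

lemma comp_PInfty_of_factors (U : SimplicialObject A) {m : ℕ} {W : A}
    (x : W ⟶ U.obj (op (SimplexCategory.mk m))) (hx : (NormalizedMooreComplex.objX U m).Factors x) :
    x ≫ PInfty.f m = x := by
  have h := HomologicalComplex.congr_hom (inclusionOfMooreComplexMap_comp_PInfty U) m
  rw [HomologicalComplex.comp_f] at h
  have e := Subobject.factorThru_arrow _ x hx
  conv_lhs => rw [← e]
  conv_rhs => rw [← e]
  rw [Category.assoc]
  exact congrArg (fun t => (NormalizedMooreComplex.objX U m).factorThru x hx ≫ t) h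

lemma factors_objX_of_faces (U : SimplicialObject A) {m : ℕ} {W : A}
    (x : W ⟶ U.obj (op (SimplexCategory.mk (m + 1)))) (hx : ∀ j : Fin (m + 2), x ≫ U.δ j = 0) :
    (NormalizedMooreComplex.objX U (m + 1)).Factors x := by
  rw [NormalizedMooreComplex.objX_add_one, Subobject.finset_inf_factors]
  exact fun i _ => kernelSubobject_factors _ _ (hx i.succ)

section LeftKan

variable (n : ℕ) [∀ F : (SimplexCategory.Truncated n)ᵒᵖ ⥤ A,
    (SimplexCategory.Truncated.inclusion n).op.HasLeftKanExtension F]

/-- The cofree simplicial object at `[m]` with value `Z`. -/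
noncomputable def cofree (m : SimplexCategoryᵒᵖ) (Z : A)
    [∀ k : SimplexCategoryᵒᵖ, HasProduct fun _ : k ⟶ m => Z] : SimplicialObject A where
  obj k := ∏ᶜ fun _ : k ⟶ m => Z
  map β := Pi.lift fun α => Pi.π _ (β ≫ α)
  map_id k := by ext α; simp
  map_comp β γ := by ext α; simp [Category.assoc]

variable (U : SimplicialObject A)

/-- The skeleton is generated in degrees at most `n`. -/
lemma skel_gen (F : (SimplexCategory.Truncated n)ᵒᵖ ⥤ A) (m : SimplexCategoryᵒᵖ) {Z : A}
    (g : ((SimplicialObject.Truncated.sk n).obj F).obj m ⟶ Z)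
    (hg : ∀ (j : (SimplexCategory.Truncated n)ᵒᵖ)
      (α : (SimplexCategory.Truncated.inclusion n).op.obj j ⟶ m),
      ((SimplicialObject.skAdj n).unit.app F).app j ≫
        ((SimplicialObject.Truncated.sk n).obj F).map α ≫ g = 0) : g = 0 := by
  haveI : ∀ k : SimplexCategoryᵒᵖ, Finite (k ⟶ m) := fun k => Finite.of_equiv _ (opEquiv k m).symm
  let L := (SimplicialObject.Truncated.sk (C := A) n).obj F
  let ψ : L ⟶ cofree m Z :=
    { app := fun k => Pi.lift fun α => L.map α ≫ g
      naturality := fun k k' β => by
        refine Pi.hom_ext _ _ fun α => ?_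
        simp [cofree] }
  have h0 : ψ = 0 := by
    apply ((SimplicialObject.skAdj n).homEquiv _ _).injective
    rw [Adjunction.homEquiv_unit, Adjunction.homEquiv_unit]
    ext j
    refine Pi.hom_ext _ _ fun α => ?_
    refine (Category.assoc _ _ _).trans (Eq.trans ?_ (Category.assoc _ _ _).symm)
    refine (congrArg (((SimplicialObject.skAdj n).unit.app F).app j ≫ ·) (Pi.lift_π _ α)).trans
      ((hg j α).trans ?_)
    refine Eq.symm ((congrArg (((SimplicialObject.skAdj n).unit.app F).app j ≫ ·) ?_).trans comp_zero)
    exact zero_comp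
  have := congrArg (fun t : L ⟶ cofree m Z => t.app m ≫ Pi.π (fun _ : m ⟶ m => Z) (𝟙 m)) h0
  have e : (Pi.lift fun α : m ⟶ m => L.map α ≫ g) ≫ Pi.π (fun _ : m ⟶ m => Z) (𝟙 m) = g := by
    rw [Pi.lift_π, L.map_id, Category.id_comp]
  exact e.symm.trans (this.trans zero_comp)

lemma unit_counit (j : (SimplexCategory.Truncated n)ᵒᵖ) :
    ((SimplicialObject.skAdj n).unit.app ((SimplicialObject.truncation n).obj U)).app j ≫
      ((SimplicialObject.skAdj n).counit.app U).app ((SimplexCategory.Truncated.inclusion n).op.obj j) =
      𝟙 _ :=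
  NatTrans.congr_app ((SimplicialObject.skAdj n).right_triangle_components U) j

lemma mono_counit_of_le (j : (SimplexCategory.Truncated n)ᵒᵖ) :
    Mono (((SimplicialObject.skAdj n).counit.app U).app
      ((SimplexCategory.Truncated.inclusion n).op.obj j)) := by
  let F := (SimplicialObject.truncation n).obj U
  let η := ((SimplicialObject.skAdj n).unit.app F).app j
  haveI : Epi η := Preadditive.epi_of_cancel_zero _ fun g hg => by
    refine skel_gen n F _ g fun j' α => ?_
    obtain ⟨a, rfl⟩ := (SimplexCategory.Truncated.inclusion.fullyFaithful n).map_surjective α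
    have hn := ((SimplicialObject.skAdj n).unit.app F).naturality a
    have hn' : ((SimplicialObject.skAdj n).unit.app F).app j' ≫
        ((SimplicialObject.Truncated.sk n).obj F).map
          ((SimplexCategory.Truncated.inclusion n).op.map a) = F.map a ≫ η := hn.symm
    exact (Category.assoc _ _ _).symm.trans ((congrArg (· ≫ g) hn').trans
      ((Category.assoc _ _ _).trans ((congrArg (F.map a ≫ ·) hg).trans comp_zero)))
  haveI : IsSplitMono η := IsSplitMono.mk' ⟨_, unit_counit n U j⟩
  haveI := isIso_of_epi_of_isSplitMono η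
  haveI : IsIso (((SimplicialObject.skAdj n).counit.app U).app
      ((SimplexCategory.Truncated.inclusion n).op.obj j)) :=
    @IsIso.of_isIso_fac_left _ _ _ _ _ η _ (𝟙 (F.obj j)) ‹_› (IsIso.id _) (unit_counit n U j)
  infer_instance

theorem mono_counit (m : ℕ) :
    Mono (((SimplicialObject.skAdj n).counit.app U).app (op (SimplexCategory.mk m))) := by
  induction m with
  | zero => exact mono_counit_of_le n U (op ⟨SimplexCategory.mk 0, by simp⟩)
  | succ m ih =>
    by_cases hm : m + 1 ≤ n
    · exact mono_counit_of_le n U (op ⟨SimplexCategory.mk (m + 1), by simpa using hm⟩)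
    refine Preadditive.mono_of_cancel_zero _ fun {W} x hx => ?_
    let L := (SimplicialObject.Truncated.sk n).obj ((SimplicialObject.truncation n).obj U)
    let ε : L ⟶ U := (SimplicialObject.skAdj n).counit.app U
    have hf : ∀ j : Fin (m + 2), x ≫ L.δ j = 0 := fun j => by
      haveI : Mono (ε.app (op (SimplexCategory.mk m))) := ih
      rw [← cancel_mono (ε.app (op (SimplexCategory.mk m))), zero_comp, Category.assoc]
      change x ≫ L.map (SimplexCategory.δ j).op ≫ ε.app _ = 0
      rw [ε.naturality, ← Category.assoc]
      change (x ≫ ε.app _) ≫ _ = 0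
      rw [show x ≫ ε.app (op (SimplexCategory.mk (m + 1))) = 0 from hx, zero_comp]
    rw [← comp_PInfty_of_factors L x (factors_objX_of_faces L x hf)]
    suffices (PInfty (X := L)).f (m + 1) = 0 by rw [this]; exact comp_zero
    refine skel_gen n _ _ _ fun j α => ?_
    have : L.map α ≫ PInfty.f (m + 1) = 0 :=
      comp_PInfty_eq_zero L (i := j.unop.obj.len) α.unop (lt_of_le_of_lt j.unop.property (by omega))
    exact (congrArg (fun t => ((SimplicialObject.skAdj n).unit.app _).app j ≫ t) this).trans comp_zero

/-- The unit at a low degree, as a map of simplicial objects' components. -/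
noncomputable def eta (j : (SimplexCategory.Truncated n)ᵒᵖ) :
    U.obj ((SimplexCategory.Truncated.inclusion n).op.obj j) ⟶
      ((SimplicialObject.Truncated.sk n).obj ((SimplicialObject.truncation n).obj U)).obj
        ((SimplexCategory.Truncated.inclusion n).op.obj j) :=
  ((SimplicialObject.skAdj n).unit.app ((SimplicialObject.truncation n).obj U)).app j

lemma eta_map_counit (j : (SimplexCategory.Truncated n)ᵒᵖ) {k : SimplexCategoryᵒᵖ}
    (α : (SimplexCategory.Truncated.inclusion n).op.obj j ⟶ k) :
    eta n U j ≫ ((SimplicialObject.Truncated.sk n).obj ((SimplicialObject.truncation n).obj U)).map α ≫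
      (((SimplicialObject.skAdj n).counit.app U).app k : _ ⟶ U.obj k) = U.map α := by
  have h := ((SimplicialObject.skAdj n).counit.app U).naturality α
  refine (congrArg (eta n U j ≫ ·) h).trans ?_
  exact (Category.assoc _ _ _).symm.trans
    ((congrArg (· ≫ U.map α) (unit_counit n U j)).trans (Category.id_comp _))

end LeftKan

end Groth.Agent.SimpSkelLib
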